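import Groth.Agent.Lib.RankStratum13.Basic
import Groth.Agent.Lib.P1Split17.Basis
import Groth.Agent.Lib.ModM1.Coh

/-!
# The stratum of rank `r` is closed for modules locally generated by `r` sections
-/

universe u

open CategoryTheory Limits AlgebraicGeometry Opposite TopologicalSpace

set_option backward.isDefEq.respectTransparency false
set_option backward.isDefEq.respectTransparency.types false
set_option linter.style.haveILetI false

noncomputable section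

namespace Groth.Agent.RankStratum3

variable {X : Scheme.{u}} {M : X.Modules}

theorem sheafIdeal_eq_top (hM : Coh.IsQCoh M) (hFT : CohB1.IsFT M) {r : ℕ}
    (h : ∀ s : X, ∃ U : X.Opens, s ∈ U ∧ ∃ p : FlatMod.freeMod (U : Scheme.{u}) r ⟶ M.restrict U.ι, Epi p) :
    Fitt.sheafIdeal M r = ⊤ := by
  refine EffCartier.eq_of_forall_exists fun x => ?_
  obtain ⟨U, hxU, p, hp⟩ := h x
  obtain ⟨W, hW, hxW, hWU⟩ := exists_isAffineOpen_mem_and_subset (x := x) (U := U) hxU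
  refine ⟨⟨W, hW⟩, hxW, ?_⟩
  rw [Fitting26.sheafIdeal_ideal hM hFT]
  have hW' : IsAffineOpen (U.ι ⁻¹ᵁ W) := hW.preimage_of_isOpenImmersion U.ι (by rw [Scheme.Opens.opensRange_ι]; exact hWU)
  have himg : U.ι ''ᵁ (U.ι ⁻¹ᵁ W) = W := by
    rw [Scheme.Hom.image_preimage_eq_opensRange_inf, Scheme.Opens.opensRange_ι, inf_eq_right]; exact hWU
  have hq : Coh.IsQCoh (FlatMod.freeMod (U : Scheme.{u}) r) :=
    M1.isQCoh_of_isIso (M1.freeModFrIso _ r).symm (M1.isQCoh_fr _ _)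
  have hsurj := M1.app_surjective_affine_of_isQCoh hq (M1.isQCoh_restrict hM U.ι) p hW'
  have hb := P1Split.isBas_coprod (fun _ : Fin r => Coh.structureModule (U : Scheme.{u}))
    (fun _ => M1.one ⊤) (fun _ => P1Split.isGen_one ⊤)
  let e : Fin r → Γ(FlatMod.freeMod (U : Scheme.{u}) r, U.ι ⁻¹ᵁ W) := fun i =>
    M1.mres _ (le_top : U.ι ⁻¹ᵁ W ≤ ⊤)
      ((Sigma.ι (fun _ : Fin r => Coh.structureModule (U : Scheme.{u})) i).app ⊤ (M1.one ⊤))
  let g : Fin r → Γ(M, W) := fun i => M1.mres M himg.ge (p.app (U.ι ⁻¹ᵁ W) (e i))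
  rw [FittingLib.ideal_eq_top_of_span g ?_ le_rfl]
  · rfl
  refine Submodule.eq_top_iff'.2 fun m => ?_
  obtain ⟨t, ht⟩ := hsurj (M1.mres M himg.le m : Γ(M.restrict U.ι, U.ι ⁻¹ᵁ W))
  obtain ⟨c, hc⟩ := (hb (U.ι ⁻¹ᵁ W) le_top).2 t
  have hm : m = M1.mres M himg.ge (p.app (U.ι ⁻¹ᵁ W) t) := by
    rw [ht]
    exact ((M1.mres_mres M _ _ _).trans (M1.mres_id M _ m)).symm
  rw [hm, ← hc]
  simp only [map_sum, Scheme.Modules.Hom.app_smul]
  refine Submodule.sum_mem _ fun i _ => ?_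
  have : M1.mres M himg.ge (c i • p.app (U.ι ⁻¹ᵁ W) (e i) : Γ(M.restrict U.ι, U.ι ⁻¹ᵁ W)) =
      M1.ores himg.ge ((U.ι.appIso (U.ι ⁻¹ᵁ W)).inv (c i)) • g i := M1.mres_smul M himg.ge _ _
  rw [this]
  exact Submodule.smul_mem _ _ (Submodule.subset_span ⟨i, rfl⟩)

theorem exists_immersion (hM : Coh.IsQCoh M) (hFT : CohB1.IsFT M) (r : ℕ) :
    ∃ (Z : Scheme.{u}) (i : Z ⟶ X), IsImmersion i ∧ (∀ (T : Scheme.{u}) (f : T ⟶ X),
      FlatMod.IsFinLocFreeOfRank r ((Scheme.Modules.pullback f).obj M) ↔ ∃ g : T ⟶ Z, g ≫ i = f) ∧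
      ((∀ s : X, ∃ U : X.Opens, s ∈ U ∧ ∃ p : FlatMod.freeMod (U : Scheme.{u}) r ⟶ M.restrict U.ι, Epi p) →
        IsClosedImmersion i) := by
  obtain ⟨Z, i, hi, hu⟩ := RankStratum13.exists_immersion hM hFT r
  refine ⟨Z, i, hi, fun T f => (hu T f).symm, fun h => ?_⟩
  have hK := sheafIdeal_eq_top hM hFT h
  let J : X.IdealSheafData := if r = 0 then ⊥ else Fitt.sheafIdeal M (r - 1)
  have hfree : ∀ (T : Scheme.{u}) (f : T ⟶ X), FlatMod.IsFinLocFreeOfRank r ((Scheme.Modules.pullback f).obj M) ↔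
      J ≤ f.ker := by
    intro T f
    have hG := M1.isQCoh_pullback f hM
    have hG' := M1.isFT_pullback f hFT
    have hJ : (r = 0 ∨ Fitt.sheafIdeal ((Scheme.Modules.pullback f).obj M) (r - 1) = ⊥) ↔ J ≤ f.ker := by
      rw [← Scheme.IdealSheafData.map_bot, Scheme.IdealSheafData.le_map_iff_comap_le, le_bot_iff]
      by_cases hr : r = 0
      · simp [J, hr]
      · simp only [J, hr, if_false, false_or]
        rw [← Fitting26.comap_eq f hM hFT (r - 1)]
    have hK' : Fitt.sheafIdeal ((Scheme.Modules.pullback f).obj M) r = ⊤ := by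
      rw [← Fitting26.comap_eq f hM hFT r, hK, Scheme.IdealSheafData.comap_top]
    refine ⟨fun h' => hJ.1 (Classical.or_iff_not_imp_left.2 fun hr =>
      (RankStratum13.eq_of_freeMod hG hG' r h' (r - 1)).1 (by omega)),
      fun h' => RankStratum13.isFinLocFreeOfRank_of_ideals hG hG' r hK' (hJ.2 h')⟩
  obtain ⟨g, hg⟩ := (hu _ J.subschemeι).2 ((hfree _ _).2 (by rw [Scheme.IdealSheafData.ker_subschemeι]))
  have hle : J.subschemeι.ker ≤ i.ker := by
    rw [Scheme.IdealSheafData.ker_subschemeι]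
    exact (hfree _ i).1 ((hu Z i).1 ⟨𝟙 Z, Category.id_comp i⟩)
  let l := IsClosedImmersion.lift J.subschemeι i hle
  have hl : l ≫ J.subschemeι = i := IsClosedImmersion.lift_fac _ _ _
  have h1 : g ≫ l = 𝟙 _ := by rw [← cancel_mono J.subschemeι, Category.assoc, hl, hg, Category.id_comp]
  have h2 : l ≫ g = 𝟙 _ := by rw [← cancel_mono i, Category.assoc, hg, hl, Category.id_comp]
  haveI : IsIso l := ⟨g, h2, h1⟩
  rw [← hl]
  infer_instance

end Groth.Agent.RankStratum3
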